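import Groth.Agent.Ega2Proj.SpecSections
import Mathlib.RingTheory.Localization.BaseChange
import Mathlib.RingTheory.MvPolynomial.Localization

/-!
# A line bundle trivial over a localisation is trivial away from one element
-/

set_option autoImplicit false

universe u

open CategoryTheory AlgebraicGeometry TensorProduct Groth.PicAux Groth.LocFree

namespace Groth.Misc6.PicAffine

theorem exists_isBasisAway {B : Type u} [CommRing B] (S : Submonoid B) (Bs : Type u) [CommRing Bs]
    [Algebra B Bs] [IsLocalization S Bs] (M : Type u) [AddCommGroup M] [Module B M]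
    [Module.Finite B M] [Module.Projective B M]
    (hn : ∃ n : Bs ⊗[B] M, Function.Bijective fun r : Bs => r • n) :
    ∃ f ∈ S, ∃ m : M, IsBasisAway f ![m] := by
  obtain ⟨n, hn⟩ := hn
  let g : M →ₗ[B] Bs ⊗[B] M := TensorProduct.mk B Bs M 1
  obtain ⟨⟨m, t⟩, hmt⟩ := IsLocalizedModule.surj S g n
  simp only [Submonoid.smul_def] at hmt
  have hbij : Function.Bijective fun r : Bs => r • g m := by
    have hu : IsUnit (algebraMap B Bs t.1) := IsLocalization.map_units Bs t
    have e : (fun r : Bs => r • g m) = (fun r : Bs => r • n) ∘ fun r => r * algebraMap B Bs t.1 := by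
      funext r
      simp only [Function.comp_apply, mul_smul, algebraMap_smul, hmt]
    rw [e]
    exact hn.comp ⟨hu.mul_left_injective, fun r => ⟨r * ↑hu.unit⁻¹, by simp [mul_assoc]⟩⟩
  obtain ⟨J, π, s, -, -, hπs⟩ := Module.Finite.exists_comp_eq_id_of_projective B M
  let e : Fin J → M := fun j => π (Pi.single j 1)
  have hspan : ∀ x : M, x = ∑ j, s x j • e j := fun x => by
    conv_lhs => rw [show x = π (s x) from (DFunLike.congr_fun hπs x).symm, pi_eq_sum_univ' (s x)]
    simp only [map_sum, map_smul, e]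
  have hcoef : ∀ x : M, ∃ u ∈ S, ∃ c : B, u • x = c • m := by
    intro x
    obtain ⟨r, hr⟩ := hbij.2 (g x)
    obtain ⟨c, u, hu⟩ := IsLocalization.exists_mk'_eq S r
    have h1 : g (u.1 • x) = g (c • m) := by
      rw [map_smul, map_smul, ← show r • g m = g x from hr, ← smul_assoc, Algebra.smul_def, ← hu,
        IsLocalization.mk'_spec', algebraMap_smul]
    obtain ⟨v, hv⟩ := (IsLocalizedModule.eq_iff_exists S g).1 h1
    simp only [Submonoid.smul_def, smul_smul] at hv
    exact ⟨v.1 * u.1, mul_mem v.2 u.2, v.1 * c, hv⟩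
  choose u hu c hc using fun j => hcoef (e j)
  let f : B := ∏ j, u j
  have hf : f ∈ S := prod_mem fun j _ => hu j
  classical
  let c' : Fin J → B := fun j => (∏ i ∈ Finset.univ.erase j, u i) * c j
  have hc' : ∀ j, f • e j = c' j • m := fun j => by
    show (∏ i, u i) • e j = _
    rw [← Finset.prod_erase_mul _ _ (Finset.mem_univ j), mul_smul, hc, ← mul_smul]
  have hall : ∀ x : M, f • x = (∑ j, s x j * c' j) • m := fun x => by
    conv_lhs => rw [hspan x]
    rw [Finset.smul_sum, Finset.sum_smul]
    exact Finset.sum_congr rfl fun j _ => by rw [smul_comm, hc', smul_smul]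
  let a : B := ∑ j, s m j * c' j
  obtain ⟨v, hv⟩ : ∃ v : S, v.1 * f = v.1 * a := by
    refine (IsLocalization.eq_iff_exists S Bs).1 (hbij.1 ?_)
    change algebraMap B Bs f • g m = algebraMap B Bs a • g m
    rw [algebraMap_smul, algebraMap_smul, ← map_smul, ← map_smul, hall m]
  refine ⟨v.1 * f, mul_mem v.2 hf, m, fun b hb => ⟨1, fun i => ?_⟩, fun x => ⟨1, ![v.1 * ∑ j, s x j * c' j], ?_⟩⟩
  · simp only [Fin.sum_univ_one, Matrix.cons_val_fin_one] at hb
    obtain rfl : i = 0 := Subsingleton.elim _ _
    have h1 : ∀ j, b 0 * s m j = 0 := fun j => by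
      have h := congrArg (fun y => s y j) hb
      simpa using h
    rw [pow_one, hv, mul_assoc, mul_comm a, Finset.mul_sum]
    simp [← mul_assoc, h1]
  · simp only [pow_one, Fin.sum_univ_one, Matrix.cons_val_fin_one]
    rw [mul_smul, hall, ← mul_smul]

/-- Generator of a module with trivial sheaf. -/
theorem exists_generator {R : CommRingCat.{u}} (N : ModuleCat.{u} R) [Module.Finite R N]
    [Module.Projective R N] (hN : ∀ q : PrimeSpectrum R, Module.rankAtStalk (R := R) N q = 1)
    (hpic : ∀ L : (Spec R).Modules, PicF.IsInvertible L → Nonempty (L ≅ Coh.structureModule _)) :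
    ∃ n : N, Function.Bijective fun r : R => r • n := by
  obtain ⟨e⟩ := hpic (tilde N) (Groth.Ega2Proj.isInvertible_tilde N hN)
  obtain ⟨s, hs⟩ := nonempty_iso_structure_iff.1 ⟨e⟩
  let eN : N ≃ₗ[R] Γ(tilde N, ⊤) := (tilde.isoTop N).toLinearEquiv
  refine ⟨eN.symm s, ?_⟩
  have h := (hs ⊤ le_rfl).comp (ConcreteCategory.bijective_of_isIso (Scheme.ΓSpecIso R).inv)
  have h2 := eN.symm.bijective.comp h
  refine (congrArg Function.Bijective (funext fun r => ?_)).mp h2
  simp only [Function.comp_apply, res_self]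
  exact (congrArg eN.symm (Groth.Ega2Proj.spec_smul_top _ r s).symm).trans (eN.symm.map_smul r s)

theorem finite_global_sections {B : CommRingCat.{u}} (L : (Spec B).Modules) (hL : PicF.IsInvertible L) :
    Module.Finite B Γ(L, ⊤) := by
  haveI := (Groth.LocFree.finite_projective_sections
    (isFinLocFree_of_rank (isInvertible_iff_ofRank_one.1 hL)) (isAffineOpen_top (Spec B))).1
  haveI : RingHomSurjective (Scheme.ΓSpecIso B).hom.hom :=
    ⟨(ConcreteCategory.bijective_of_isIso (Scheme.ΓSpecIso B).hom).2⟩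
  let f : Γ(L, ⊤) →ₛₗ[(Scheme.ΓSpecIso B).hom.hom] Γ(L, ⊤) :=
    { toFun := id
      map_add' := fun _ _ => rfl
      map_smul' := fun r x => by
        rw [Groth.Ega2Proj.spec_smul_top]
        simp }
  exact Module.Finite.of_surjective f Function.surjective_id

/-- The same, from triviality of all invertible sheaves on the localisation. -/
theorem exists_isBasisAway_of_pic {B : CommRingCat.{u}} (S : Submonoid B) (Bs : CommRingCat.{u})
    [Algebra B Bs] [IsLocalization S Bs]
    (hpic : ∀ L : (Spec Bs).Modules, PicF.IsInvertible L → Nonempty (L ≅ Coh.structureModule _))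
    (L : (Spec B).Modules) (hL : PicF.IsInvertible L) :
    ∃ f ∈ S, ∃ m : Γ(L, ⊤), IsBasisAway f ![m] := by
  obtain ⟨hproj, hrank⟩ := Groth.Ega2Proj.projective_rank_one_of_isInvertible L hL
  haveI := finite_global_sections L hL
  have hN : ∀ q : PrimeSpectrum Bs, Module.rankAtStalk (R := Bs) (Bs ⊗[B] Γ(L, ⊤)) q = 1 := fun q => by
    rw [Module.rankAtStalk_baseChange]
    exact hrank _
  exact exists_isBasisAway S Bs Γ(L, ⊤)
    (exists_generator (ModuleCat.of Bs (Bs ⊗[B] Γ(L, ⊤))) hN hpic)

end Groth.Misc6.PicAffine
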