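import Groth.Agent.Misc6.PicAffine.Alg
import Groth.Agent.PicAux.Pullback
import Groth.Agent.PicAux.GenLocal
import Groth.Agent.PicAux.GenLocusAffine
import Mathlib.AlgebraicGeometry.AffineSpace
import Mathlib.Algebra.MvPolynomial.Nilpotent

/-!
# Line bundles on affine space over a reduced scheme
-/

set_option autoImplicit false

universe u

open CategoryTheory CategoryTheory.Limits AlgebraicGeometry TopologicalSpace Opposite
open Groth.PicAux Groth.LocFree

namespace Groth.Misc6.PicAffine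

variable {X Y : Scheme.{u}}

theorem gen_of_basis' {M : X.Modules} {U : X.Opens} {s : Fin 1 → Γ(M, U)} (h : Basis' M U s) :
    Gen M U (s 0) := by
  intro V hV
  have h' := (h V hV).comp (Equiv.funUnique (Fin 1) Γ(X, V)).symm.bijective
  refine (congrArg Function.Bijective (funext fun r => ?_)).mp h'
  simp

theorem gen_image (c : Y ⟶ X) [IsOpenImmersion c] {L : X.Modules} {W : Y.Opens}
    {s : Γ(L, c ''ᵁ W)} (h : Gen (L.restrict c) W s) : Gen L (c ''ᵁ W) s := by
  intro V hV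
  obtain ⟨W', rfl⟩ : ∃ W' : Y.Opens, c ''ᵁ W' = V :=
    ⟨c ⁻¹ᵁ V, by
      rw [Scheme.Hom.image_preimage_eq_opensRange_inf, inf_eq_right]
      exact hV.trans (c.image_le_opensRange W)⟩
  have hW : W' ≤ W := (c.image_le_image_iff W' W).1 hV
  have h2 := (h W' hW).comp (ConcreteCategory.bijective_of_isIso (c.appIso W').hom)
  refine (congrArg Function.Bijective (funext fun r => ?_)).mp h2
  change (c.appIso W').inv ((c.appIso W').hom r) • res L hV s = r • res L hV s
  rw [← CommRingCat.comp_apply, Iso.hom_inv_id, CommRingCat.id_apply]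

/-- Transport of triviality of all line bundles along an isomorphism. -/
theorem pic_of_iso (e : X ≅ Y)
    (h : ∀ L : X.Modules, PicF.IsInvertible L → Nonempty (L ≅ Coh.structureModule X))
    (L : Y.Modules) (hL : PicF.IsInvertible L) : Nonempty (L ≅ Coh.structureModule Y) := by
  obtain ⟨i⟩ := h _ (isInvertible_pullback e.hom hL)
  have := isIso_pullUnit e.inv
  exact ⟨((Scheme.Modules.pullbackId Y).app L).symm ≪≫
    ((Scheme.Modules.pullbackCongr e.inv_hom_id.symm).app L) ≪≫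
    ((Scheme.Modules.pullbackComp e.inv e.hom).app L).symm ≪≫
    (Scheme.Modules.pullback e.inv).mapIso i ≪≫ asIso (pullUnit e.inv)⟩

variable (σ : Type u) (X)

/-- The chart of affine space over an affine open. -/
noncomputable def chart {V : X.Opens} (hV : IsAffineOpen V) :
    Spec (CommRingCat.of (MvPolynomial σ Γ(X, V))) ⟶ AffineSpace σ X :=
  (AffineSpace.SpecIso σ Γ(X, V)).inv ≫ AffineSpace.map σ hV.fromSpec

instance isOpenImmersion_chart {V : X.Opens} (hV : IsAffineOpen V) : IsOpenImmersion (chart X σ hV) := by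
  have : IsOpenImmersion (AffineSpace.map σ hV.fromSpec) :=
    MorphismProperty.of_isPullback (AffineSpace.isPullback_map (n := σ) hV.fromSpec).flip inferInstance
  unfold chart
  infer_instance

theorem chart_over {V : X.Opens} (hV : IsAffineOpen V) :
    chart X σ hV ≫ (AffineSpace σ X ↘ X) = Spec.map (CommRingCat.ofHom MvPolynomial.C) ≫ hV.fromSpec := by
  rw [chart, Category.assoc, AffineSpace.map_over, AffineSpace.SpecIso_inv_over_assoc]

theorem opensRange_chart {V : X.Opens} (hV : IsAffineOpen V) :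
    (chart X σ hV).opensRange = (AffineSpace σ X ↘ X) ⁻¹ᵁ V := by
  apply Opens.ext
  change Set.range (chart X σ hV) = (AffineSpace σ X ↘ X) ⁻¹' (V : Set X)
  have h := AffineSpace.isPullback_map (n := σ) hV.fromSpec
  have hm : Set.range (AffineSpace.map σ hV.fromSpec) =
      (AffineSpace σ X ↘ X) ⁻¹' Set.range hV.fromSpec := by
    rw [← h.isoPullback_hom_fst, Scheme.Hom.comp_base, TopCat.coe_comp,
      Function.Surjective.range_comp h.isoPullback.hom.surjective]
    exact Scheme.Pullback.range_fst _ _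
  rw [chart, Scheme.Hom.comp_base, TopCat.coe_comp,
    Function.Surjective.range_comp (AffineSpace.SpecIso σ Γ(X, V)).inv.surjective, hm, hV.range_fromSpec]

variable {σ X}

/-- A line bundle on affine space which is trivial over every local ring is trivial locally on the base. -/
theorem exists_local_gen (L : (AffineSpace σ X).Modules) (hL : PicF.IsInvertible L) (x : X)
    (hx : ∀ M : (AffineSpace σ (Spec (X.presheaf.stalk x))).Modules, PicF.IsInvertible M →
      Nonempty (M ≅ Coh.structureModule _)) :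
    ∃ (V : X.Opens) (s : Γ(L, (AffineSpace σ X ↘ X) ⁻¹ᵁ V)), x ∈ V ∧ Gen L _ s := by
  obtain ⟨V, hV, hxV, -⟩ := exists_isAffineOpen_mem_and_subset (x := x) (U := (⊤ : X.Opens)) trivial
  let c := chart X σ hV
  let R := Γ(X, V)
  let O := X.presheaf.stalk x
  letI : Algebra R O := TopCat.Presheaf.algebra_section_stalk X.presheaf ⟨x, hxV⟩
  haveI : IsLocalization.AtPrime O (hV.primeIdealOf ⟨x, hxV⟩).asIdeal := hV.isLocalization_stalk ⟨x, hxV⟩
  let B : CommRingCat.{u} := CommRingCat.of (MvPolynomial σ R)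
  let Bs : CommRingCat.{u} := CommRingCat.of (MvPolynomial σ O)
  letI : Algebra B Bs := MvPolynomial.algebraMvPolynomial
  haveI : IsLocalization ((hV.primeIdealOf ⟨x, hxV⟩).asIdeal.primeCompl.map
      (MvPolynomial.C (σ := σ))) Bs :=
    MvPolynomial.isLocalization (hV.primeIdealOf ⟨x, hxV⟩).asIdeal.primeCompl O
  have hpic : ∀ M : (Spec Bs).Modules, PicF.IsInvertible M → Nonempty (M ≅ Coh.structureModule _) :=
    pic_of_iso (AffineSpace.SpecIso σ O) hx
  have hL' : PicF.IsInvertible (L.restrict c) :=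
    isInvertible_of_iso (isInvertible_pullback c hL)
      ((Scheme.Modules.restrictFunctorIsoPullback c).app L).symm
  obtain ⟨f, hf, m, hm⟩ := exists_isBasisAway_of_pic (B := B)
    ((hV.primeIdealOf ⟨x, hxV⟩).asIdeal.primeCompl.map (MvPolynomial.C (σ := σ))) Bs hpic (L.restrict c) hL'
  obtain ⟨f₀, hf₀, rfl⟩ := Submonoid.mem_map.1 hf
  haveI : (L.restrict c).IsQuasicoherent := isQCoh_of_isInvertible hL'
  have h1 := gen_of_basis' (basis'_of_isBasisAway (isAffineOpen_top (Spec B)) _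
    ((Groth.Ega2Proj.isBasisAway_iff (L.restrict c) _ _).2 hm))
  have h2 := gen_image c h1
  have himg : c ''ᵁ ((Spec B).basicOpen ((Scheme.ΓSpecIso B).inv (MvPolynomial.C f₀))) =
      (AffineSpace σ X ↘ X) ⁻¹ᵁ X.basicOpen f₀ := by
    have e1 : c ⁻¹ᵁ ((AffineSpace σ X ↘ X) ⁻¹ᵁ X.basicOpen f₀) =
        (Spec B).basicOpen ((Scheme.ΓSpecIso B).inv (MvPolynomial.C f₀)) := by
      rw [← Scheme.Hom.comp_preimage, chart_over, Scheme.Hom.comp_preimage, hV.fromSpec_preimage_basicOpen,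
        basicOpen_eq_of_affine]
      rfl
    rw [← e1, Scheme.Hom.image_preimage_eq_opensRange_inf, opensRange_chart, inf_eq_right]
    exact (AffineSpace σ X ↘ X).preimage_mono (X.basicOpen_le f₀)
  refine ⟨X.basicOpen f₀, res L himg.ge _, ?_, h2.res himg.ge⟩
  have hmem : hV.fromSpec ⁻¹ᵁ X.basicOpen f₀ = PrimeSpectrum.basicOpen f₀ :=
    hV.fromSpec_preimage_basicOpen f₀
  have hp : hV.fromSpec (hV.primeIdealOf ⟨x, hxV⟩) ∈ X.basicOpen f₀ := by
    change hV.primeIdealOf ⟨x, hxV⟩ ∈ hV.fromSpec ⁻¹ᵁ X.basicOpen f₀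
    rw [hmem]; exact hf₀
  rwa [hV.fromSpec_primeIdealOf] at hp

theorem specMap_fromSpec_appLE {V : X.Opens} (hV : IsAffineOpen V) {R' : CommRingCat.{u}} (g : Γ(X, V) ⟶ R')
    (h : ⊤ ≤ (Spec.map g ≫ hV.fromSpec) ⁻¹ᵁ V) :
    (Spec.map g ≫ hV.fromSpec).appLE V ⊤ h ≫ (Scheme.ΓSpecIso R').hom = g := by
  have h' : (⊤ : (Spec R').Opens) ≤ Spec.map g ⁻¹ᵁ hV.fromSpec ⁻¹ᵁ V := h
  have key : hV.fromSpec.app V ≫ (Spec.map g).appLE (hV.fromSpec ⁻¹ᵁ V) ⊤ h' =
      (Scheme.ΓSpecIso Γ(X, V)).inv ≫ (Spec.map g).appLE ⊤ ⊤ le_top := by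
    rw [hV.fromSpec_app_self, Category.assoc]
    congr 1
  have hn : (Spec.map g).appLE ⊤ ⊤ le_top = (Spec.map g).appTop := (Scheme.Hom.app_eq_appLE _).symm
  rw [Scheme.Hom.comp_appLE, key, hn, Category.assoc, Scheme.ΓSpecIso_naturality, Iso.inv_hom_id_assoc]

/-- Units on affine space over a reduced base come from the base. -/
theorem exists_app_eq_of_isUnit [IsReduced X] {V : X.Opens} (hV : IsAffineOpen V)
    {u : Γ(AffineSpace σ X, (AffineSpace σ X ↘ X) ⁻¹ᵁ V)} (hu : IsUnit u) :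
    ∃ r : Γ(X, V), (AffineSpace σ X ↘ X).app V r = u := by
  let c := chart X σ hV
  let π := AffineSpace σ X ↘ X
  have hle : ⊤ ≤ c ⁻¹ᵁ π ⁻¹ᵁ V := by
    intro y _
    exact (opensRange_chart X σ hV).le ⟨y, rfl⟩
  haveI := c.isIso_app (π ⁻¹ᵁ V) (opensRange_chart X σ hV).ge
  have htop : c ⁻¹ᵁ π ⁻¹ᵁ V = ⊤ := eq_top_iff.2 hle
  haveI : IsIso (c.appLE (π ⁻¹ᵁ V) ⊤ hle) := by
    have : IsIso ((Spec (CommRingCat.of (MvPolynomial σ Γ(X, V)))).presheaf.map (homOfLE hle).op) := by
      have : IsIso (homOfLE hle) := ⟨homOfLE htop.le, rfl, rfl⟩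
      infer_instance
    unfold Scheme.Hom.appLE
    infer_instance
  let φ : Γ(AffineSpace σ X, π ⁻¹ᵁ V) ⟶ CommRingCat.of (MvPolynomial σ Γ(X, V)) :=
    c.appLE (π ⁻¹ᵁ V) ⊤ hle ≫ (Scheme.ΓSpecIso _).hom
  haveI : IsIso φ := by
    change IsIso (c.appLE (π ⁻¹ᵁ V) ⊤ hle ≫ (Scheme.ΓSpecIso _).hom)
    infer_instance
  have hφ : π.app V ≫ φ = CommRingCat.ofHom MvPolynomial.C := by
    have h1 : π.app V ≫ c.appLE (π ⁻¹ᵁ V) ⊤ hle =
        (Spec.map (CommRingCat.ofHom (MvPolynomial.C (σ := σ) (R := Γ(X, V)))) ≫ hV.fromSpec).appLE V ⊤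
          (by rw [← chart_over]; exact hle) := by
      rw [Scheme.Hom.app_eq_appLE, Scheme.Hom.appLE_comp_appLE]
      congr 1
      exact chart_over X σ hV
    change π.app V ≫ c.appLE (π ⁻¹ᵁ V) ⊤ hle ≫ (Scheme.ΓSpecIso _).hom = _
    rw [← Category.assoc, h1]
    exact specMap_fromSpec_appLE hV _ _
  haveI : _root_.IsReduced Γ(X, V) := IsReduced.component_reduced V
  obtain ⟨r, -, hr⟩ := MvPolynomial.isUnit_iff_eq_C_of_isReduced.1 (hu.map φ.hom)
  refine ⟨r, (ConcreteCategory.bijective_of_isIso φ).1 ?_⟩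
  rw [← CommRingCat.comp_apply, hφ]
  exact hr.symm

end Groth.Misc6.PicAffine
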